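import Groth.Agent.Lib.FibDim14.Comp
import Groth.Agent.Lib.FibDim14.Semicont
import Groth.Agent.Lib.VarDim.Top
import Mathlib.AlgebraicGeometry.IdealSheaf.Subscheme

/-!
# Dimension along closed dominant maps
-/

universe u

set_option autoImplicit false
set_option linter.style.haveILetI false
set_option backward.isDefEq.respectTransparency.types false

open AlgebraicGeometry CategoryTheory

namespace Groth.Agent.DimClosed12

open FibDim14

variable {X Y : Scheme.{u}} (f : X ⟶ Y) [LocallyOfFiniteType f]

/-- Every fibre of a morphism from an irreducible scheme has dimension at least the generic one. -/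
theorem rd_genericPoint_le [IrreducibleSpace X] (x : X) :
    (rd f (genericPoint X) : WithBot ℕ∞) ≤ FlatMor.fibreDimAt f x := by
  obtain ⟨x', -, -, hd, -⟩ := exists_fibreDimAt_eq f x
  by_contra hlt
  rw [hd, not_le] at hlt
  have hlt' : rd f x' < rd f (genericPoint X) := by exact_mod_cast hlt
  have hη : genericPoint X ∈ {z : X | FlatMor.fibreDimAt f z ≤ (rd f x' : WithBot ℕ∞)} :=
    (genericPoint_spec X).mem_open_set_iff (isOpen_fibreDimAt_le f (rd f x')) |>.2
      ⟨x, trivial, le_of_eq hd⟩
  have := (rd_le_fibreDimAt f (specializes_rfl (x := genericPoint X)) rfl).trans hη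
  exact hlt'.not_ge (by exact_mod_cast this)

/-- Specializations lift along a closed map without decreasing the residual degree. -/
theorem exists_lift (hc : IsClosedMap f.base) (x : X) {y' : Y} (h : f x ⤳ y') :
    ∃ x', x ⤳ x' ∧ f x' = y' ∧ rd f x ≤ rd f x' := by
  let J := Scheme.IdealSheafData.vanishingIdeal (X := X) ⟨closure {x}, isClosed_closure⟩
  have hr : Set.range J.subschemeι = closure {x} := by
    rw [Scheme.IdealSheafData.range_subschemeι, Scheme.IdealSheafData.coe_support_vanishingIdeal]
    rfl
  haveI hirr : IrreducibleSpace J.subscheme := by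
    have h2 : IsIrreducible (Set.range J.subschemeι) := hr ▸ isIrreducible_singleton.closure
    have := Subtype.irreducibleSpace h2
    exact J.subschemeι.isEmbedding.toHomeomorph.symm.surjective.irreducibleSpace
      J.subschemeι.isEmbedding.toHomeomorph.symm.continuous
  have hgen : J.subschemeι (genericPoint J.subscheme) = x := by
    refine IsGenericPoint.eq (S := closure {x}) ?_ isGenericPoint_closure
    have := (genericPoint_spec J.subscheme).image J.subschemeι.continuous
    rwa [Set.image_univ, hr, closure_closure] at this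
  obtain ⟨z, hz, hzy⟩ : y' ∈ f.base '' closure {x} :=
    h.mem_closed (hc _ isClosed_closure) ⟨x, subset_closure rfl, rfl⟩
  obtain ⟨w, rfl⟩ : z ∈ Set.range J.subschemeι := hr.symm ▸ hz
  obtain ⟨w', -, hw', hd, -⟩ := exists_fibreDimAt_eq (J.subschemeι ≫ f) w
  have hle := rd_genericPoint_le (J.subschemeι ≫ f) w
  rw [hd] at hle
  have hle' : rd (J.subschemeι ≫ f) (genericPoint J.subscheme) ≤ rd (J.subschemeι ≫ f) w' := by
    exact_mod_cast hle
  have e : ∀ v, rd (J.subschemeι ≫ f) v = rd f (J.subschemeι v) := fun v => by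
    rw [rd_comp, rd_of_surjectiveOnStalks J.subschemeι, Nat.add_zero]
  rw [e, e, hgen] at hle'
  refine ⟨J.subschemeι w', specializes_iff_mem_closure.2 (hr ▸ ⟨w', rfl⟩), ?_, hle'⟩
  exact hw'.trans hzy

theorem rd_le_height (x : X) : (rd f x : ℕ∞) ≤ Order.height x := by
  obtain ⟨z, hz⟩ : ∃ z, f.fiberι (f x) z = x := ⟨f.asFiber x, f.fiberι_asFiber x⟩
  have h1 : Order.height z = (rd f x : ℕ∞) := by
    rw [VarDim.height_eq_sdim (toPt f (f x)) z, ← rd_fiberι f (f x) z, hz]
  rw [← h1]
  refine (Order.height_le_height_apply_of_strictMono (f.fiberι (f x)) (fun a b hab => ?_) z).trans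
    (le_of_eq (congrArg _ hz))
  rw [VarDim.lt_iff_specializes_and_ne] at hab ⊢
  exact ⟨hab.1.map (f.fiberι (f x)).continuous, (f.fiberι (f x)).isEmbedding.injective.ne hab.2⟩

theorem length_add_rd_le_height (hc : IsClosedMap f.base) :
    ∀ (m : ℕ) (l : LTSeries Y), l.length = m → ∀ x : X, f x = l.last →
      ((m + rd f x : ℕ) : ℕ∞) ≤ Order.height x := by
  intro m
  induction m with
  | zero =>
    intro l _ x _
    simpa using rd_le_height f x
  | succ m ih =>
    intro l hl x hx
    have hlt : l.eraseLast.last < l.last := l.eraseLast_last_rel_last (by omega)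
    have hsp : f x ⤳ l.eraseLast.last := hx ▸ (VarDim.lt_iff_specializes_and_ne.1 hlt).1
    obtain ⟨x', hxx', hfx', hrd⟩ := exists_lift f hc x hsp
    have hne : x' ≠ x := fun e => hlt.ne (by rw [← hfx', e, hx])
    have h1 := ih l.eraseLast (by simp [hl]) x' hfx'
    have h2 := Order.height_add_one_le (VarDim.lt_iff_specializes_and_ne.2 ⟨hxx', hne⟩)
    refine le_trans ?_ h2
    refine le_trans ?_ (add_le_add_left h1 1)
    exact_mod_cast (by omega : m + 1 + rd f x ≤ (m + rd f x') + 1)

theorem dim_add_rd_le [IrreducibleSpace X] [IrreducibleSpace Y] [IsDominant f] (hc : IsClosedMap f.base) :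
    topologicalKrullDim Y + (rd f (genericPoint X) : WithBot ℕ∞) ≤ topologicalKrullDim X := by
  rw [VarDim.topologicalKrullDim_eq_height_genericPoint, VarDim.topologicalKrullDim_eq_height_genericPoint]
  have hη : f (genericPoint X) = genericPoint Y := by
    refine IsGenericPoint.eq (S := (Set.univ : Set Y)) ?_ (genericPoint_spec Y)
    have := (genericPoint_spec X).image f.continuous
    rwa [Set.image_univ, f.denseRange.closure_range] at this
  suffices h : Order.height (genericPoint Y) + (rd f (genericPoint X) : ℕ∞) ≤ Order.height (genericPoint X) by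
    exact_mod_cast h
  rw [Order.height_eq_iSup_last_eq]
  haveI : Nonempty {l : LTSeries Y // l.last = genericPoint Y} := ⟨⟨RelSeries.singleton _ _, rfl⟩⟩
  rw [iSup_subtype' (f := fun (l : LTSeries Y) (_ : l.last = genericPoint Y) => (l.length : ℕ∞)),
    ENat.iSup_add]
  refine iSup_le fun l => ?_
  have := length_add_rd_le_height f hc l.1.length l.1 rfl (genericPoint X) (hη.trans l.2.symm)
  exact_mod_cast this

end Groth.Agent.DimClosed12
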